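/-
Certificate data of a coset enumeration.
-/
import Cfsg.Agent.Lib.CosetEnum.Suz1782.Data

set_option autoImplicit false
set_option maxRecDepth 1000000

namespace CfsgLib.CosetEnum.Suz1782

open CfsgLib.CosetEnum

theorem points0_ok : okPoints table 7 rels 0 500 = true := by decide +kernel

theorem points1_ok : okPoints table 7 rels 500 500 = true := by decide +kernel

theorem points2_ok : okPoints table 7 rels 1000 500 = true := by decide +kernel

theorem points3_ok : okPoints table 7 rels 1500 282 = true := by decide +kernel


end CfsgLib.CosetEnum.Suz1782
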